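import Groth.Agent.Lib.Unram.UnibranchEtaleAlg
import Groth.Agent.Lib.Unram.BranchNbhd
import Groth.Agent.Lib.Unram.BranchHenselian

/-! The number of geometric branches only depends on the ring up to isomorphism. -/

set_option autoImplicit false
set_option linter.style.haveILetI false
universe u

namespace Groth.Agent.H25.Branch.Congr

open IsLocalRing
open Lib.Henselian.StrictHenselization (StrictHenselization)
open Groth.Agent.Lib.Unram Groth.Agent.Lib

theorem numGeomBranches_congr {A B : Type u} [CommRing A] [IsLocalRing A] [CommRing B]
    [IsLocalRing B] (e : A ≃+* B) : Brnch.numGeomBranches A = Brnch.numGeomBranches B := by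
  letI : Algebra A B := e.toRingHom.toAlgebra
  haveI : IsLocalHom (algebraMap A B) := by
    refine ⟨fun a ha => ?_⟩
    have h : IsUnit (e a) := ha
    simpa using h.map e.symm
  haveI : Algebra.Etale A B :=
    Algebra.Etale.of_equiv (AlgEquiv.ofRingEquiv (f := e) fun _ => rfl)
  haveI : Algebra.IsSeparable (ResidueField A) (ResidueField B) :=
    ⟨fun z => by
      obtain ⟨b, rfl⟩ := residue_surjective z
      obtain ⟨a, rfl⟩ := e.surjective b
      exact isSeparable_algebraMap (F := ResidueField A) (residue A a)⟩
  obtain ⟨σ⟩ := UnibranchEtaleAlg.exists_strict_equiv A B (IndEtale.Basic.of_etale (A := A) (B := B))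
  rw [← BranchHenselian.card_minimalPrimes_strictHenselization A (StrictHenselization A),
    ← BranchHenselian.card_minimalPrimes_strictHenselization B (StrictHenselization B),
    BranchNbhd.card_congr σ]

end Groth.Agent.H25.Branch.Congr
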