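import Groth.Agent.H25.Branch.Points
import Groth.Prelude.Def_EGA4b
import Mathlib.RingTheory.Localization.Integral
import Mathlib.RingTheory.IntegralClosure.IntegrallyClosed
import Mathlib.RingTheory.Localization.AtPrime.Basic

/-!
Geometric points of an integrally closed domain integral over `R` with purely inseparable
fraction field extension, and quotients of normal rings by minimal primes.
-/

set_option autoImplicit false
set_option linter.style.haveILetI false
universe u

namespace Groth.Agent.H25.Branch.Component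

open scoped nonZeroDivisors

/-- In a normal ring every prime contains only one minimal prime, and the quotient by it is
integrally closed. -/
theorem minimalPrime_eq {S : Type u} [CommRing S] (hS : EGA4.IsNormalRing S) {P : Ideal S}
    (hP : P ∈ minimalPrimes S) (m : Ideal S) [m.IsPrime] (hle : P ≤ m) :
    P = RingHom.ker (algebraMap S (Localization.AtPrime m)) := by
  haveI := (hS m).1
  haveI := hP.1.1
  haveI : (RingHom.ker (algebraMap S (Localization.AtPrime m))).IsPrime := RingHom.ker_isPrime _
  have hk : RingHom.ker (algebraMap S (Localization.AtPrime m)) ≤ P := fun x hx => by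
    obtain ⟨v, hv⟩ := (IsLocalization.map_eq_zero_iff m.primeCompl _ x).1 hx
    exact (hP.1.1.mem_or_mem (hv.symm ▸ P.zero_mem)).resolve_left fun h => v.2 (hle h)
  exact le_antisymm (hP.2 ⟨inferInstance, bot_le⟩ hk) hk

theorem isIntegrallyClosed_quotient {S : Type u} [CommRing S] (hS : EGA4.IsNormalRing S)
    (P : Ideal S) (hP : P ∈ minimalPrimes S) [P.IsPrime] : IsIntegrallyClosed (S ⧸ P) := by
  let F := FractionRing (S ⧸ P)
  rw [isIntegrallyClosed_iff F]
  intro x hx
  let D : Ideal S :=
    { carrier := {c | algebraMap S F c * x ∈ (algebraMap (S ⧸ P) F).range}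
      add_mem' := fun {a b} ha hb => by
        show algebraMap S F (a + b) * x ∈ (algebraMap (S ⧸ P) F).range
        rw [map_add, add_mul]; exact add_mem ha hb
      zero_mem' := by
        show algebraMap S F 0 * x ∈ (algebraMap (S ⧸ P) F).range
        rw [map_zero, zero_mul]; exact zero_mem _
      smul_mem' := fun r c hc => by
        show algebraMap S F (r * c) * x ∈ (algebraMap (S ⧸ P) F).range
        rw [map_mul, mul_assoc, IsScalarTower.algebraMap_apply S (S ⧸ P) F r]
        exact mul_mem ⟨_, rfl⟩ hc }
  suffices hD : D = ⊤ by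
    obtain ⟨z, hz⟩ := ((Ideal.eq_top_iff_one D).1 hD : algebraMap S F 1 * x ∈ (algebraMap (S ⧸ P) F).range)
    exact ⟨z, by rw [hz, map_one, one_mul]⟩
  by_contra hD
  obtain ⟨m, hm, hDm⟩ := Ideal.exists_le_maximal D hD
  have hPm : P ≤ m := fun c hc => hDm (by
    show algebraMap S F c * x ∈ (algebraMap (S ⧸ P) F).range
    rw [IsScalarTower.algebraMap_apply S (S ⧸ P) F, Ideal.Quotient.algebraMap_eq,
      Ideal.Quotient.eq_zero_iff_mem.2 hc, map_zero, zero_mul]
    exact zero_mem _)
  have hker := minimalPrime_eq hS hP m hPm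
  haveI := (hS m).1
  haveI := (hS m).2
  have hu : ∀ v : m.primeCompl, IsUnit (algebraMap S F v) := fun v => isUnit_iff_ne_zero.2 (by
    rw [IsScalarTower.algebraMap_apply S (S ⧸ P) F, Ne,
      map_eq_zero_iff _ (IsFractionRing.injective (S ⧸ P) F), Ideal.Quotient.algebraMap_eq,
      Ideal.Quotient.eq_zero_iff_mem]
    exact fun h => v.2 (hPm h))
  let φ : Localization.AtPrime m →+* F := IsLocalization.lift hu
  letI := φ.toAlgebra
  haveI : IsScalarTower S (Localization.AtPrime m) F :=
    IsScalarTower.of_algebraMap_eq fun c => (IsLocalization.lift_eq hu c).symm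
  haveI : FaithfulSMul (Localization.AtPrime m) F := by
    rw [faithfulSMul_iff_algebraMap_injective, injective_iff_map_eq_zero]
    intro w hw
    obtain ⟨⟨c, v⟩, hcv⟩ := IsLocalization.surj m.primeCompl w
    have h1 := congrArg (algebraMap (Localization.AtPrime m) F) hcv
    rw [map_mul, hw, zero_mul, ← IsScalarTower.algebraMap_apply,
      IsScalarTower.algebraMap_apply S (S ⧸ P) F, eq_comm,
      map_eq_zero_iff _ (IsFractionRing.injective (S ⧸ P) F), Ideal.Quotient.algebraMap_eq,
      Ideal.Quotient.eq_zero_iff_mem, hker, RingHom.mem_ker] at h1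
    simp only at hcv
    rw [h1] at hcv
    exact (IsLocalization.map_units _ v).mul_left_eq_zero.1 hcv
  haveI : IsFractionRing (Localization.AtPrime m) F := IsFractionRing.of_field _ _ fun z => by
    obtain ⟨a, b, -, rfl⟩ := IsFractionRing.div_surjective (A := S ⧸ P) z
    obtain ⟨a, rfl⟩ := Ideal.Quotient.mk_surjective a
    obtain ⟨b, rfl⟩ := Ideal.Quotient.mk_surjective b
    exact ⟨algebraMap S _ a, algebraMap S _ b, by
      rw [← IsScalarTower.algebraMap_apply, ← IsScalarTower.algebraMap_apply]; rfl⟩
  have hxS : IsIntegral S x := by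
    haveI : Algebra.IsIntegral S (S ⧸ P) := Algebra.isIntegral_def.2 fun z => by
      obtain ⟨z, rfl⟩ := Ideal.Quotient.mk_surjective z
      exact isIntegral_algebraMap
    exact isIntegral_trans (A := S ⧸ P) x hx
  obtain ⟨z, hz⟩ := IsIntegrallyClosed.isIntegral_iff.1 (hxS.tower_top (A := Localization.AtPrime m))
  obtain ⟨⟨c, v⟩, hcv⟩ := IsLocalization.surj m.primeCompl z
  simp only at hcv
  refine v.2 (hDm ?_)
  refine ⟨Ideal.Quotient.mk P c, ?_⟩
  rw [← Ideal.Quotient.algebraMap_eq, ← IsScalarTower.algebraMap_apply,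
    IsScalarTower.algebraMap_apply S (Localization.AtPrime m) F, ← hcv, map_mul, hz, mul_comm,
    ← IsScalarTower.algebraMap_apply]

/-- The geometric points of the normalisation of `R` are those of an integrally closed integral
extension with purely inseparable fraction field extension. -/
theorem exists_points_equiv (R T : Type u) [CommRing R] [IsDomain R] [CommRing T] [IsDomain T]
    [IsIntegrallyClosed T] [Algebra R T] [Algebra.IsIntegral R T]
    (hinj : Function.Injective (algebraMap R T)) (q : ℕ) [ExpChar (FractionRing R) q]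
    (huniq : ∀ (Ω : Type u) [Field Ω] [IsAlgClosed Ω] (τ σ : T →+* Ω), RingHom.ker τ = ⊥ →
      RingHom.ker σ = ⊥ → τ.comp (algebraMap R T) = σ.comp (algebraMap R T) → τ = σ)
    (Ω : Type u) [Field Ω] [IsAlgClosed Ω] [ExpChar Ω q] (ψ : R →+* Ω) :
    Nonempty ({τ : integralClosure R (FractionRing R) →+* Ω //
        τ.comp (algebraMap R (integralClosure R (FractionRing R))) = ψ} ≃
      {τ : T →+* Ω // τ.comp (algebraMap R T) = ψ}) := by
  haveI : FaithfulSMul R T := (faithfulSMul_iff_algebraMap_injective R T).2 hinj
  let FR := FractionRing R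
  let FT := FractionRing T
  letI : Algebra FR FT := FractionRing.liftAlgebra R FT
  haveI : IsScalarTower R FR FT := FractionRing.isScalarTower_liftAlgebra R FT
  haveI : Algebra.IsAlgebraic R FT := IsFractionRing.isAlgebraic_iff' R T FT |>.1
    (Algebra.IsIntegral.isAlgebraic)
  haveI : Algebra.IsAlgebraic FR FT :=
    (IsFractionRing.comap_isAlgebraic_iff (A := R) (K := FR) (C := FT)).1 inferInstance
  haveI : IsPurelyInseparable FR FT := by
    rw [isPurelyInseparable_iff_subsingleton_emb]
    refine ⟨fun σ τ => AlgHom.coe_ringHom_injective (IsLocalization.ringHom_ext T⁰ ?_)⟩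
    have hk : ∀ ρ : FT →ₐ[FR] AlgebraicClosure FT,
        RingHom.ker ((ρ : FT →+* AlgebraicClosure FT).comp (algebraMap T FT)) = ⊥ := fun ρ =>
      (RingHom.injective_iff_ker_eq_bot _).1
        (ρ.toRingHom.injective.comp (IsFractionRing.injective T FT))
    refine huniq _ _ _ (hk σ) (hk τ) (RingHom.ext fun r => ?_)
    show σ (algebraMap T FT (algebraMap R T r)) = τ (algebraMap T FT (algebraMap R T r))
    rw [← IsScalarTower.algebraMap_apply R T FT, IsScalarTower.algebraMap_apply R FR FT,
      AlgHom.commutes, AlgHom.commutes]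
  -- the map from the normalisation
  let i : T →ₐ[R] FT := IsScalarTower.toAlgHom R T FT
  have hi : Function.Injective i := IsFractionRing.injective T FT
  let g : integralClosure R FR →ₐ[R] FT :=
    (IsScalarTower.toAlgHom R FR FT).comp (integralClosure R FR).val
  have hg : ∀ z, g z ∈ i.range := fun z => by
    obtain ⟨t, ht⟩ := IsIntegrallyClosed.isIntegral_iff.1 ((z.2.map (IsScalarTower.toAlgHom R FR FT)).tower_top (A := T))
    exact ⟨t, ht⟩
  let h : integralClosure R FR →ₐ[R] T :=
    (AlgEquiv.ofInjective i hi).symm.toAlgHom.comp (g.codRestrict i.range hg)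
  have hh : ∀ z, algebraMap T FT (h z) = algebraMap FR FT z := fun z => by
    show i ((AlgEquiv.ofInjective i hi).symm (g.codRestrict i.range hg z)) = _
    exact congrArg Subtype.val ((AlgEquiv.ofInjective i hi).apply_symm_apply (g.codRestrict i.range hg z))
  have hhi : Function.Injective h := fun a b hab => by
    have h1 := congrArg (algebraMap T FT) hab
    rw [hh, hh] at h1
    exact Subtype.ext ((algebraMap FR FT).injective h1)
  have hpow : ∀ z : T, ∃ (n : ℕ) (y : integralClosure R FR), z ^ q ^ n = h.toRingHom y := fun z => by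
    obtain ⟨n, x, hx⟩ := IsPurelyInseparable.pow_mem FR q (algebraMap T FT z)
    have hxi : IsIntegral R x := by
      refine (isIntegral_algHom_iff (IsScalarTower.toAlgHom R FR FT) (algebraMap FR FT).injective).1 ?_
      show IsIntegral R (algebraMap FR FT x)
      rw [hx, ← map_pow]
      exact (Algebra.IsIntegral.isIntegral (z ^ q ^ n)).map i
    refine ⟨n, ⟨x, hxi⟩, IsFractionRing.injective T FT ?_⟩
    show algebraMap T FT (z ^ q ^ n) = algebraMap T FT (h ⟨x, hxi⟩)
    rw [hh, map_pow]
    exact hx.symm
  let Φ : {τ : T →+* Ω // τ.comp (algebraMap R T) = ψ} →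
      {τ : integralClosure R FR →+* Ω // τ.comp (algebraMap R (integralClosure R FR)) = ψ} :=
    fun τ => ⟨τ.1.comp h.toRingHom, RingHom.ext fun r => by
      show τ.1 (h (algebraMap R _ r)) = ψ r
      rw [h.commutes]
      exact RingHom.congr_fun τ.2 r⟩
  refine ⟨(Equiv.ofBijective Φ ⟨fun τ σ hτσ => Subtype.ext ?_, fun σ => ?_⟩).symm⟩
  · exact Points.ext_of_pow q h.toRingHom τ.1 σ.1 (congrArg Subtype.val hτσ) hpow
  · letI := h.toRingHom.toAlgebra
    haveI : IsScalarTower R (integralClosure R FR) T :=
      IsScalarTower.of_algebraMap_eq fun r => (h.commutes r).symm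
    haveI : Algebra.IsIntegral (integralClosure R FR) T :=
      Algebra.IsIntegral.tower_top (R := R)
    obtain ⟨τ, hτ⟩ := Points.exists_lift (integralClosure R FR) T Ω σ.1 (by
      have : RingHom.ker (algebraMap (integralClosure R FR) T) = ⊥ :=
        (RingHom.injective_iff_ker_eq_bot _).1 hhi
      rw [this]; exact bot_le)
    refine ⟨⟨τ, RingHom.ext fun r => ?_⟩, Subtype.ext hτ⟩
    show τ (algebraMap R T r) = ψ r
    rw [IsScalarTower.algebraMap_apply R (integralClosure R FR) T]
    exact (RingHom.congr_fun hτ _).trans (RingHom.congr_fun σ.2 r)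

end Groth.Agent.H25.Branch.Component
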