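import Groth.Agent.H25.Branch.Points
import Groth.Agent.H52.FBase.GeomRed
import Groth.Agent.Lib.NormalTensor.Field
import Mathlib.FieldTheory.PurelyInseparable.PerfectClosure
import Mathlib.RingTheory.IntegralClosure.IntegrallyClosed
import Mathlib.RingTheory.Ideal.GoingDown
import Mathlib.RingTheory.Flat.Stability

/-!
A normal model of the extension of scalars of a domain to a field extension, with the geometric
points of the normalisation.
-/

set_option autoImplicit false
set_option linter.style.haveILetI false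
universe u

namespace Groth.Agent.H25.Branch.Extend

open scoped TensorProduct

theorem isNormalRing_of_domain (B : Type u) [CommRing B] [IsDomain B] [IsIntegrallyClosed B] :
    EGA4.IsNormalRing B := fun p _ =>
  ⟨inferInstance, isIntegrallyClosed_of_isLocalization _ p.primeCompl p.primeCompl_le_nonZeroDivisors⟩

/-- Minimal primes of `K ⊗ B` lie over zero in the domain `B`. -/
theorem comap_minimalPrime_eq_bot (k K B : Type u) [Field k] [Field K] [Algebra k K] [CommRing B]
    [IsDomain B] [Algebra k B] {P : Ideal (K ⊗[k] B)} (hP : P ∈ minimalPrimes (K ⊗[k] B)) :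
    P.comap (Algebra.TensorProduct.includeRight : B →ₐ[k] K ⊗[k] B).toRingHom = ⊥ := by
  haveI := hP.1.1
  letI := (Algebra.TensorProduct.includeRight : B →ₐ[k] K ⊗[k] B).toRingHom.toAlgebra
  haveI : IsScalarTower k B (K ⊗[k] B) := IsScalarTower.of_algebraMap_eq fun c =>
    ((Algebra.TensorProduct.includeRight : B →ₐ[k] K ⊗[k] B).commutes c).symm
  haveI : Module.Flat B (K ⊗[k] B) := by
    let e : B ⊗[k] K ≃ₐ[B] K ⊗[k] B :=
      AlgEquiv.ofRingEquiv (f := (Algebra.TensorProduct.comm k B K).toRingEquiv) fun a => rfl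
    exact Module.Flat.of_linearEquiv e.symm.toLinearEquiv
  haveI : P.LiesOver (P.comap (algebraMap B (K ⊗[k] B))) := ⟨rfl⟩
  obtain ⟨Q, hQ, hQp, hQover⟩ := P.exists_ideal_le_liesOver_of_le (p := (⊥ : Ideal B))
    (q := P.comap (algebraMap B (K ⊗[k] B))) bot_le
  obtain rfl : Q = P := le_antisymm hQ (hP.2 ⟨hQp, bot_le⟩ hQ)
  exact hQover.1.symm

set_option maxHeartbeats 1600000 in
/-- For a domain `R` over `k` and a field extension `K`: a normal ring integral over `R ⊗ K` whose
geometric points over those of `R ⊗ K` are the geometric points of the normalisation of `R`. -/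
theorem exists_model (k K R : Type u) [Field k] [Field K] [Algebra k K] [CommRing R] [IsDomain R]
    [Algebra k R] :
    ∃ (M : Type u) (_ : CommRing M) (ρ : R ⊗[k] K →+* M), ρ.IsIntegral ∧ EGA4.IsNormalRing M ∧
      (∀ P ∈ minimalPrimes M, P.comap (ρ.comp (algebraMap R (R ⊗[k] K))) = ⊥) ∧
      ∀ (Ω : Type u) [Field Ω] [IsAlgClosed Ω] (ψ : R ⊗[k] K →+* Ω),
        Nonempty ({Φ : M →+* Ω // Φ.comp ρ = ψ} ≃
          {τ : integralClosure R (FractionRing R) →+* Ω //
            τ.comp (algebraMap R (integralClosure R (FractionRing R))) =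
              ψ.comp (algebraMap R (R ⊗[k] K))}) := by
  classical
  let F := FractionRing R
  let q := ringExpChar k
  haveI : ExpChar K q := expChar_of_injective_algebraMap (algebraMap k K).injective q
  haveI : ExpChar F q := expChar_of_injective_algebraMap (algebraMap k F).injective q
  let Kb := AlgebraicClosure K
  let k₀ := perfectClosure k Kb
  let K₀ := perfectClosure K Kb
  let L := perfectClosure F (AlgebraicClosure F)
  let N := integralClosure R F
  haveI : IsScalarTower k R L := IsScalarTower.of_algebraMap_eq fun c => by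
    rw [IsScalarTower.algebraMap_apply R F L, ← IsScalarTower.algebraMap_apply k R F,
      ← IsScalarTower.algebraMap_apply k F L]
  let N₀ := integralClosure R L
  -- the structure maps
  have hk₀ : ∀ x : k₀, (x : Kb) ∈ K₀ := fun x => by
    obtain ⟨n, c, hc⟩ := (mem_perfectClosure_iff_pow_mem q).1 x.2
    exact (mem_perfectClosure_iff_pow_mem q).2 ⟨n, algebraMap k K c,
      (IsScalarTower.algebraMap_apply k K Kb c).symm.trans hc⟩
  let gK : k₀ →+* K₀ := (algebraMap k₀ Kb).codRestrict K₀ hk₀
  letI : Algebra k₀ K₀ := gK.toAlgebra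
  haveI : IsScalarTower k k₀ K₀ := IsScalarTower.of_algebraMap_eq fun c => Subtype.ext rfl
  let ι : k₀ →ₐ[k] L := Classical.arbitrary _
  have hι : ∀ x, ι x ∈ N₀ := fun x =>
    ((Algebra.IsIntegral.isIntegral (R := k) x).map ι).tower_top (A := R)
  let gN : k₀ →+* N₀ := ι.toRingHom.codRestrict N₀ hι
  letI : Algebra k₀ N₀ := gN.toAlgebra
  haveI : IsScalarTower k k₀ N₀ := IsScalarTower.of_algebraMap_eq fun c => Subtype.ext (ι.commutes c).symm
  let M := K₀ ⊗[k₀] N₀
  -- normality
  haveI : IsIntegrallyClosed N₀ := by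
    rw [isIntegrallyClosed_iff (FractionRing N₀)]
    intro x hx
    have hinj : Function.Injective (algebraMap N₀ L) := Subtype.val_injective
    let φ : FractionRing N₀ →+* L := IsFractionRing.lift hinj
    let φa : FractionRing N₀ →ₐ[N₀] L :=
      { φ with commutes' := fun z => IsFractionRing.lift_algebraMap hinj z }
    have h1 : IsIntegral R (φ x) := isIntegral_trans (A := N₀) _ (hx.map φa)
    exact ⟨⟨φ x, h1⟩, φ.injective (IsFractionRing.lift_algebraMap hinj _)⟩
  haveI : Algebra.IsGeometricallyReduced k₀ K₀ :=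
    H52.FBase.GeomRed.isGeometricallyReduced_of_perfectField
  have hMnormal : EGA4.IsNormalRing M :=
    Lib.NormalTensor.Field.isNormalRing_tensor_of_geometricallyReduced k₀
      (isNormalRing_of_domain N₀)
  let iN : N₀ →ₐ[k₀] M := Algebra.TensorProduct.includeRight
  let iK : K₀ →ₐ[k₀] M := Algebra.TensorProduct.includeLeft
  let fR : R →ₐ[k] M := (iN.restrictScalars k).comp (IsScalarTower.toAlgHom k R N₀)
  let fK : K →ₐ[k] M := (iK.restrictScalars k).comp (IsScalarTower.toAlgHom k K K₀)
  let ρa : R ⊗[k] K →ₐ[k] M := Algebra.TensorProduct.lift fR fK fun _ _ => Commute.all _ _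
  let ρ : R ⊗[k] K →+* M := ρa.toRingHom
  have hρR : ρ.comp (algebraMap R (R ⊗[k] K)) = iN.toRingHom.comp (algebraMap R N₀) :=
    RingHom.ext fun r => by
      show ρa (r ⊗ₜ[k] (1 : K)) = _
      rw [Algebra.TensorProduct.lift_tmul, map_one, mul_one]
      rfl
  have hρK : ρ.comp (Algebra.TensorProduct.includeRight : K →ₐ[k] R ⊗[k] K).toRingHom =
      iK.toRingHom.comp (algebraMap K K₀) := RingHom.ext fun c => by
    show ρa ((1 : R) ⊗ₜ[k] c) = _
    rw [Algebra.TensorProduct.lift_tmul, map_one, one_mul]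
    rfl
  refine ⟨M, inferInstance, ρ, fun z => ?_, hMnormal, fun P hP => ?_, fun Ω _ _ ψ => ?_⟩
  · -- integrality
    induction z using TensorProduct.induction_on with
    | zero => exact RingHom.isIntegralElem_zero ρ
    | tmul a b =>
      rw [show (a ⊗ₜ[k₀] b : M) = iK a * iN b by
        show _ = (a ⊗ₜ[k₀] (1 : N₀)) * ((1 : K₀) ⊗ₜ[k₀] b)
        rw [Algebra.TensorProduct.tmul_mul_tmul, mul_one, one_mul]]
      refine RingHom.IsIntegralElem.mul ρ ?_ ?_
      · obtain ⟨p, hp, hpa⟩ := Algebra.IsIntegral.isIntegral (R := K) a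
        refine ⟨p.map (Algebra.TensorProduct.includeRight : K →ₐ[k] R ⊗[k] K).toRingHom, hp.map _, ?_⟩
        rw [Polynomial.eval₂_map, hρK]
        show p.eval₂ _ (iK.toRingHom a) = 0
        rw [← Polynomial.hom_eval₂, hpa, map_zero]
      · obtain ⟨p, hp, hpb⟩ := Algebra.IsIntegral.isIntegral (R := R) b
        refine ⟨p.map (algebraMap R (R ⊗[k] K)), hp.map _, ?_⟩
        rw [Polynomial.eval₂_map, hρR]
        show p.eval₂ _ (iN.toRingHom b) = 0
        rw [← Polynomial.hom_eval₂, hpb, map_zero]
    | add x y hx hy => exact hx.add ρ hy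
  · -- minimal primes lie over zero
    have hbot : P.comap iN.toRingHom = ⊥ := comap_minimalPrime_eq_bot k₀ K₀ N₀ hP
    rw [hρR, ← Ideal.comap_comap, hbot, ← RingHom.ker_eq_comap_bot]
    refine (RingHom.injective_iff_ker_eq_bot _).1 fun a b h => ?_
    exact IsFractionRing.injective R F ((algebraMap F L).injective (congrArg Subtype.val h))
  · -- geometric points
    haveI : ExpChar Ω q :=
      expChar_of_injective_ringHom (ψ.comp (algebraMap k (R ⊗[k] K))).injective q
    let jN : N →ₐ[R] N₀ :=
      ((IsScalarTower.toAlgHom R F L).comp (integralClosure R F).val).codRestrict N₀ fun z =>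
        z.2.map (IsScalarTower.toAlgHom R F L)
    have hjN : ∀ z, (jN z : L) = algebraMap F L z := fun z => rfl
    have hpowN : ∀ z : N₀, ∃ (n : ℕ) (y : N), z ^ q ^ n = jN.toRingHom y := fun z => by
      obtain ⟨n, x, hx⟩ := (mem_perfectClosure_iff_pow_mem q).1 (z.1).2
      have hxi : IsIntegral R x := by
        refine (isIntegral_algHom_iff (IsScalarTower.toAlgHom R F L) (algebraMap F L).injective).1 ?_
        have h1 : algebraMap F L x = (z : L) ^ q ^ n := Subtype.ext hx
        show IsIntegral R (algebraMap F L x)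
        rw [h1]
        exact z.2.pow _
      exact ⟨n, ⟨x, hxi⟩, Subtype.ext (Subtype.ext hx.symm)⟩
    have hpowK : ∀ z : K₀, ∃ (n : ℕ) (y : K), z ^ q ^ n = algebraMap K K₀ y := fun z => by
      obtain ⟨n, x, hx⟩ := (mem_perfectClosure_iff_pow_mem q).1 z.2
      exact ⟨n, x, Subtype.ext hx.symm⟩
    have hpowk : ∀ z : k₀, ∃ (n : ℕ) (y : k), z ^ q ^ n = algebraMap k k₀ y := fun z => by
      obtain ⟨n, x, hx⟩ := (mem_perfectClosure_iff_pow_mem q).1 z.2
      exact ⟨n, x, Subtype.ext hx.symm⟩
    let F₁ : {Φ : M →+* Ω // Φ.comp ρ = ψ} →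
        {τ : N →+* Ω // τ.comp (algebraMap R N) = ψ.comp (algebraMap R (R ⊗[k] K))} := fun Φ =>
      ⟨(Φ.1.comp iN.toRingHom).comp jN.toRingHom, by
        conv_rhs => rw [← Φ.2, RingHom.comp_assoc, hρR]
        exact RingHom.ext fun r => congrArg (fun t => Φ.1 (iN t)) (jN.commutes r)⟩
    refine ⟨Equiv.ofBijective F₁ ⟨fun Φ Φ' h => ?_, fun τ => ?_⟩⟩
    · have hK : Φ.1.comp iK.toRingHom = Φ'.1.comp iK.toRingHom := by
        refine Points.ext_of_pow q (algebraMap K K₀) _ _ ?_ hpowK
        rw [RingHom.comp_assoc, RingHom.comp_assoc, ← hρK, ← RingHom.comp_assoc,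
          ← RingHom.comp_assoc, Φ.2, Φ'.2]
      have hN : Φ.1.comp iN.toRingHom = Φ'.1.comp iN.toRingHom :=
        Points.ext_of_pow q jN.toRingHom _ _ (congrArg Subtype.val h) hpowN
      refine Subtype.ext (RingHom.ext fun z => ?_)
      induction z using TensorProduct.induction_on with
      | zero => rw [map_zero, map_zero]
      | tmul a b =>
        rw [show (a ⊗ₜ[k₀] b : M) = iK a * iN b by
          show _ = (a ⊗ₜ[k₀] (1 : N₀)) * ((1 : K₀) ⊗ₜ[k₀] b)
          rw [Algebra.TensorProduct.tmul_mul_tmul, mul_one, one_mul], map_mul, map_mul]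
        exact congr_arg₂ (· * ·) (RingHom.congr_fun hK a) (RingHom.congr_fun hN b)
      | add x y hx hy => rw [map_add, map_add, hx, hy]
    · let σ : K →+* Ω := ψ.comp (Algebra.TensorProduct.includeRight : K →ₐ[k] R ⊗[k] K).toRingHom
      obtain ⟨σ₀, hσ₀⟩ := Points.exists_lift K K₀ Ω σ (by
        rw [(RingHom.injective_iff_ker_eq_bot _).1 (algebraMap K K₀).injective]; exact bot_le)
      letI := jN.toRingHom.toAlgebra
      haveI : IsScalarTower R N N₀ := IsScalarTower.of_algebraMap_eq fun r => (jN.commutes r).symm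
      haveI : Algebra.IsIntegral N N₀ := Algebra.IsIntegral.tower_top (R := R)
      obtain ⟨τ₀, hτ₀⟩ := Points.exists_lift N N₀ Ω τ.1 (by
        have : RingHom.ker (algebraMap N N₀) = ⊥ :=
          (RingHom.injective_iff_ker_eq_bot _).1 fun a b h => Subtype.ext
            ((algebraMap F L).injective (congrArg Subtype.val h))
        rw [this]; exact bot_le)
      have hagree : σ₀.comp gK = τ₀.comp gN := by
        refine Points.ext_of_pow q (algebraMap k k₀) _ _ (RingHom.ext fun c => ?_) hpowk
        show σ₀ (gK (algebraMap k k₀ c)) = τ₀ (gN (algebraMap k k₀ c))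
        rw [show gK (algebraMap k k₀ c) = algebraMap K K₀ (algebraMap k K c) from
            Subtype.ext (IsScalarTower.algebraMap_apply k K Kb c),
          show gN (algebraMap k k₀ c) = jN (algebraMap R N (algebraMap k R c)) from by
            rw [AlgHom.commutes]
            exact Subtype.ext (ι.commutes c)]
        refine (RingHom.congr_fun hσ₀ _).trans (Eq.trans ?_ (RingHom.congr_fun hτ₀ _).symm)
        refine Eq.trans ?_ (RingHom.congr_fun τ.2 _).symm
        show ψ ((1 : R) ⊗ₜ[k] algebraMap k K c) = ψ ((algebraMap k R c) ⊗ₜ[k] (1 : K))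
        rw [Algebra.algebraMap_eq_smul_one, Algebra.algebraMap_eq_smul_one,
          TensorProduct.smul_tmul]
      letI : Algebra k₀ Ω := (σ₀.comp gK).toAlgebra
      let aK : K₀ →ₐ[k₀] Ω := { σ₀ with commutes' := fun c => rfl }
      let aN : N₀ →ₐ[k₀] Ω := { τ₀ with commutes' := fun c => (RingHom.congr_fun hagree c).symm }
      let Φ : M →ₐ[k₀] Ω := Algebra.TensorProduct.lift aK aN fun _ _ => Commute.all _ _
      have hΦK : ∀ a, Φ (iK a) = σ₀ a := fun a => by
        show Φ (a ⊗ₜ[k₀] (1 : N₀)) = _
        rw [Algebra.TensorProduct.lift_tmul, map_one, mul_one]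
        rfl
      have hΦN : ∀ b, Φ (iN b) = τ₀ b := fun b => by
        show Φ ((1 : K₀) ⊗ₜ[k₀] b) = _
        rw [Algebra.TensorProduct.lift_tmul, map_one, one_mul]
        rfl
      refine ⟨⟨Φ.toRingHom, RingHom.ext fun z => ?_⟩, Subtype.ext (RingHom.ext fun y => ?_)⟩
      · induction z using TensorProduct.induction_on with
        | zero => rw [map_zero, map_zero]
        | tmul r c =>
          have hz : (r ⊗ₜ[k] c : R ⊗[k] K) = algebraMap R _ r * ((1 : R) ⊗ₜ[k] c) := by
            show _ = (r ⊗ₜ[k] (1 : K)) * _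
            rw [Algebra.TensorProduct.tmul_mul_tmul, mul_one, one_mul]
          rw [hz, map_mul, map_mul]
          refine congr_arg₂ (· * ·) ?_ ?_
          · show Φ ((ρ.comp (algebraMap R (R ⊗[k] K))) r) = _
            rw [hρR]
            show Φ (iN (algebraMap R N₀ r)) = _
            rw [hΦN, IsScalarTower.algebraMap_apply R N N₀]
            exact (RingHom.congr_fun hτ₀ _).trans (RingHom.congr_fun τ.2 r)
          · show Φ ((ρ.comp (Algebra.TensorProduct.includeRight : K →ₐ[k] R ⊗[k] K).toRingHom) c) = _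
            rw [hρK]
            show Φ (iK (algebraMap K K₀ c)) = _
            rw [hΦK]
            exact RingHom.congr_fun hσ₀ c
        | add x y hx hy => rw [map_add, map_add, hx, hy]
      · show Φ (iN (jN y)) = _
        rw [hΦN]
        exact RingHom.congr_fun hτ₀ y

end Groth.Agent.H25.Branch.Extend
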