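import Groth.Agent.H25.Branch.Sum
import Groth.Agent.H25.Branch.Extend
import Groth.Agent.Lib.Excellent.NormalRing
import Mathlib.RingTheory.Localization.Integral
import Mathlib.RingTheory.Flat.Localization

/-!
The number of geometric branches is invariant under extension of the base field.
-/

set_option autoImplicit false
set_option linter.style.haveILetI false
universe u

namespace Groth.Agent.H25.Branch.Main

open IsLocalRing
open scoped TensorProduct

/-- A geometric point of a domain with trivial kernel has at most one lift to the normalisation. -/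
theorem lift_unique (R Ω : Type u) [CommRing R] [IsDomain R] [Field Ω]
    (τ σ : integralClosure R (FractionRing R) →+* Ω)
    (hinj : Function.Injective (τ.comp (algebraMap R (integralClosure R (FractionRing R)))))
    (h : τ.comp (algebraMap R (integralClosure R (FractionRing R))) =
      σ.comp (algebraMap R (integralClosure R (FractionRing R)))) : τ = σ := by
  refine RingHom.ext fun z => ?_
  obtain ⟨a, b, hb, hz⟩ := IsFractionRing.div_surjective (A := R) (z : FractionRing R)
  have hb0 : algebraMap R (FractionRing R) b ≠ 0 := fun h0 =>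
    nonZeroDivisors.ne_zero hb (IsFractionRing.injective R (FractionRing R) (h0.trans (map_zero _).symm))
  have e : z * algebraMap R _ b = algebraMap R _ a := Subtype.ext (by
    show (z : FractionRing R) * algebraMap R _ b = algebraMap R _ a
    rw [← hz, div_mul_cancel₀ _ hb0])
  have hτb : τ (algebraMap R _ b) ≠ 0 := fun h0 =>
    nonZeroDivisors.ne_zero hb (hinj (h0.trans (map_zero (τ.comp _)).symm))
  refine mul_right_cancel₀ hτb ?_
  rw [← map_mul, e]
  conv_rhs => rw [show τ (algebraMap R _ b) = σ (algebraMap R _ b) from RingHom.congr_fun h b,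
    ← map_mul, e]
  exact RingHom.congr_fun h a

variable (k K A : Type u) [Field k] [Field K] [Algebra k K] [CommRing A] [Algebra k A]

/-- The projection `A ⊗ K → (A/p) ⊗ K`. -/
noncomputable def proj (p : Ideal A) : A ⊗[k] K →ₐ[k] (A ⧸ p) ⊗[k] K :=
  Algebra.TensorProduct.map (Ideal.Quotient.mkₐ k p) (AlgHom.id k K)

theorem proj_surjective (p : Ideal A) : Function.Surjective (proj k K A p) :=
  TensorProduct.map_surjective Ideal.Quotient.mk_surjective Function.surjective_id

theorem proj_comp (p : Ideal A) :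
    (proj k K A p).toRingHom.comp (algebraMap A (A ⊗[k] K)) =
      (algebraMap (A ⧸ p) ((A ⧸ p) ⊗[k] K)).comp (Ideal.Quotient.mk p) :=
  RingHom.ext fun _ => rfl

/-- Points of the model over `A ⊗ K` are points of the normalisation of `A/p`. -/
theorem points_equiv (p : Ideal A) [p.IsPrime] (M : Type u) [CommRing M]
    (ρ : (A ⧸ p) ⊗[k] K →+* M) (Ω : Type u) [Field Ω] [IsAlgClosed Ω] (ψ : A ⊗[k] K →+* Ω)
    (h : ∀ ψ' : (A ⧸ p) ⊗[k] K →+* Ω, Nonempty ({Φ : M →+* Ω // Φ.comp ρ = ψ'} ≃
      {τ : integralClosure (A ⧸ p) (FractionRing (A ⧸ p)) →+* Ω //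
        τ.comp (algebraMap (A ⧸ p) (integralClosure (A ⧸ p) (FractionRing (A ⧸ p)))) =
          ψ'.comp (algebraMap (A ⧸ p) ((A ⧸ p) ⊗[k] K))})) :
    Nonempty ({Φ : M →+* Ω // Φ.comp (ρ.comp (proj k K A p).toRingHom) = ψ} ≃
      {τ : Sum.Nrm A p →+* Ω // τ.comp (Sum.toNrm A p) = ψ.comp (algebraMap A (A ⊗[k] K))}) := by
  by_cases hp : RingHom.ker (proj k K A p).toRingHom ≤ RingHom.ker ψ
  · let ψ' : (A ⧸ p) ⊗[k] K →+* Ω :=
      RingHom.liftOfSurjective (proj k K A p).toRingHom (proj_surjective k K A p) ⟨ψ, hp⟩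
    have hψ' : ψ'.comp (proj k K A p).toRingHom = ψ :=
      RingHom.liftOfSurjective_comp _ _ _
    obtain ⟨e⟩ := h ψ'
    refine ⟨Equiv.trans (Equiv.subtypeEquivRight fun Φ => ?_) (e.trans
      (Equiv.subtypeEquivRight fun τ => ?_))⟩
    · rw [← RingHom.comp_assoc, ← hψ', RingHom.cancel_right (proj_surjective k K A p)]
    · rw [Sum.toNrm, ← hψ']
      constructor
      · intro h
        rw [RingHom.comp_assoc, proj_comp, ← RingHom.comp_assoc, ← RingHom.comp_assoc, h]
      · intro h
        refine (RingHom.cancel_right Ideal.Quotient.mk_surjective).1 ?_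
        rw [RingHom.comp_assoc, h, RingHom.comp_assoc, proj_comp, ← RingHom.comp_assoc]
  · haveI : IsEmpty {Φ : M →+* Ω // Φ.comp (ρ.comp (proj k K A p).toRingHom) = ψ} := ⟨fun Φ => hp <| by
      intro x hx
      rw [RingHom.mem_ker, ← Φ.2, RingHom.comp_apply, RingHom.comp_apply, RingHom.mem_ker.1 hx,
        map_zero, map_zero]⟩
    haveI : IsEmpty {τ : Sum.Nrm A p →+* Ω //
        τ.comp (Sum.toNrm A p) = ψ.comp (algebraMap A (A ⊗[k] K))} := ⟨fun τ => hp <| by
      have hker : RingHom.ker (proj k K A p).toRingHom =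
          p.map (algebraMap A (A ⊗[k] K)) := by
        refine (Algebra.TensorProduct.map_ker _ _ Ideal.Quotient.mk_surjective
          Function.surjective_id).trans ?_
        have h1 : RingHom.ker (AlgHom.id k K) = ⊥ :=
          (RingHom.injective_iff_ker_eq_bot _).1 Function.injective_id
        have h2 : RingHom.ker (Ideal.Quotient.mkₐ k p) = p := Ideal.mk_ker
        rw [h1, Ideal.map_bot, sup_bot_eq, h2]
        rfl
      rw [hker, Ideal.map_le_iff_le_comap, RingHom.comap_ker, ← τ.2]
      intro a ha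
      rw [RingHom.mem_ker, RingHom.comp_apply]
      show τ.1 (algebraMap _ _ (Ideal.Quotient.mk p a)) = 0
      rw [Ideal.Quotient.eq_zero_iff_mem.2 ha, map_zero, map_zero]⟩
    exact ⟨Equiv.equivOfIsEmpty _ _⟩

/-- **Geometric branches are invariant under extension of the base field.** -/
theorem numGeomBranches_eq' [IsLocalRing A] (q : Ideal (A ⊗[k] K)) [q.IsPrime]
    (hq : q.comap (algebraMap A (A ⊗[k] K)) = maximalIdeal A) (hfinA : (minimalPrimes A).Finite)
    (hfin : (minimalPrimes (Localization.AtPrime q)).Finite ∨ Brnch.numGeomBranches A ≠ ⊤) :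
    Brnch.numGeomBranches (Localization.AtPrime q) = Brnch.numGeomBranches A := by
  classical
  have hmodel : ∀ p : minimalPrimes A, ∃ (M : Type u) (_ : CommRing M)
      (ρ : A ⊗[k] K →+* M), ρ.IsIntegral ∧ EGA4.IsNormalRing M ∧
      (∀ P ∈ minimalPrimes M, P.comap (ρ.comp (algebraMap A (A ⊗[k] K))) = p.1) ∧
      ∀ (Ω : Type u) [Field Ω] [IsAlgClosed Ω] (ψ : A ⊗[k] K →+* Ω),
        Nonempty ({Φ : M →+* Ω // Φ.comp ρ = ψ} ≃
          {τ : Sum.Nrm A p.1 →+* Ω //
            τ.comp (Sum.toNrm A p.1) = ψ.comp (algebraMap A (A ⊗[k] K))}) := fun p => by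
    haveI := p.2.1.1
    obtain ⟨M, _, ρ, hint, hnorm, hmin, hpts⟩ := Extend.exists_model k K (A ⧸ p.1)
    refine ⟨M, inferInstance, ρ.comp (proj k K A p.1).toRingHom,
      RingHom.IsIntegral.trans _ _ (RingHom.isIntegral_of_surjective _ (proj_surjective k K A p.1)) hint,
      hnorm, fun P hP => ?_, fun Ω _ _ ψ => points_equiv k K A p.1 M ρ Ω ψ (hpts Ω)⟩
    rw [RingHom.comp_assoc, proj_comp, ← RingHom.comp_assoc, ← Ideal.comap_comap, hmin P hP,
      ← RingHom.ker_eq_comap_bot, Ideal.mk_ker]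
  choose M hMring ρ hint hnorm hminM hptsM using hmodel
  let B := Localization.AtPrime q
  let T : minimalPrimes A → Type u := fun p => Localization (q.primeCompl.map (ρ p : A ⊗[k] K →* M p))
  let tf : ∀ p, B →+* T p := fun p =>
    IsLocalization.map (T p) (ρ p) (q.primeCompl.le_comap_map : _ ≤ Submonoid.comap (ρ p : A ⊗[k] K →* M p) _)
  letI : ∀ p, Algebra B (T p) := fun p => (tf p).toAlgebra
  haveI : ∀ p, Algebra.IsIntegral B (T p) := fun p =>
    ⟨isIntegral_localization' (hint p) q.primeCompl⟩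
  have htf : ∀ p, (tf p).comp (algebraMap (A ⊗[k] K) B) = (algebraMap (M p) (T p)).comp (ρ p) :=
    fun p => IsLocalization.map_comp _
  haveI : Module.Flat A B := Module.Flat.trans A (A ⊗[k] K) B
  haveI : IsLocalHom (algebraMap A B) := by
    refine ((IsLocalRing.local_hom_TFAE _).out 0 4 rfl rfl).2 ?_
    rw [IsScalarTower.algebraMap_eq A (A ⊗[k] K) B, ← Ideal.comap_comap]
    exact (congrArg _ (IsLocalization.AtPrime.under_maximalIdeal B q)).trans hq
  let Good : Ideal B → Prop := fun Q => Q.comap (algebraMap A B) ∈ minimalPrimes A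
  -- points of the localised models
  have hpts : ∀ (p : minimalPrimes A) (Ω : Type u) [Field Ω] [IsAlgClosed Ω] (ψ : B →+* Ω),
      Nonempty ({τ : T p →+* Ω // τ.comp (algebraMap B (T p)) = ψ} ≃
        {τ : Sum.Nrm A p.1 →+* Ω // τ.comp (Sum.toNrm A p.1) = ψ.comp (algebraMap A B)}) := by
    intro p Ω _ _ ψ
    obtain ⟨e⟩ := hptsM p Ω (ψ.comp (algebraMap (A ⊗[k] K) B))
    let Φ : {τ : T p →+* Ω // τ.comp (algebraMap B (T p)) = ψ} →
        {Φ : M p →+* Ω // Φ.comp (ρ p) = ψ.comp (algebraMap (A ⊗[k] K) B)} := fun τ =>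
      ⟨τ.1.comp (algebraMap (M p) (T p)), by
        rw [RingHom.comp_assoc, ← htf p, ← RingHom.comp_assoc]
        exact congrArg (fun f => f.comp (algebraMap (A ⊗[k] K) B)) τ.2⟩
    have hΦ : Function.Bijective Φ := by
      refine ⟨fun τ σ h => Subtype.ext (IsLocalization.ringHom_ext
        (q.primeCompl.map (ρ p : A ⊗[k] K →* M p)) (congrArg Subtype.val h)), fun σ => ?_⟩
      have hu : ∀ y : q.primeCompl.map (ρ p : A ⊗[k] K →* M p), IsUnit (σ.1 y) := by
        rintro ⟨_, c, hc, rfl⟩
        show IsUnit (σ.1 (ρ p c))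
        rw [show σ.1 (ρ p c) = ψ (algebraMap (A ⊗[k] K) B c) from RingHom.congr_fun σ.2 c]
        exact (IsLocalization.map_units B (⟨c, hc⟩ : q.primeCompl)).map ψ
      refine ⟨⟨IsLocalization.lift hu, IsLocalization.ringHom_ext q.primeCompl ?_⟩,
        Subtype.ext (IsLocalization.lift_comp hu)⟩
      rw [RingHom.comp_assoc, RingHom.algebraMap_toAlgebra, htf p, ← RingHom.comp_assoc,
        IsLocalization.lift_comp hu]
      exact σ.2
    refine ⟨(Equiv.ofBijective Φ hΦ).trans (e.trans (Equiv.subtypeEquivRight fun τ => ?_))⟩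
    rw [IsScalarTower.algebraMap_eq A (A ⊗[k] K) B, RingHom.comp_assoc]
  have hmin : ∀ Q ∈ minimalPrimes B, Good Q := by
    intro Q hQ
    haveI := hQ.1.1
    haveI : Q.LiesOver (Q.comap (algebraMap A B)) := ⟨rfl⟩
    refine ⟨⟨Ideal.IsPrime.comap _, bot_le⟩, fun r ⟨hr, _⟩ hle => ?_⟩
    haveI := hr
    obtain ⟨Q', hQ', hQ'p, hQ'r⟩ := Q.exists_ideal_le_liesOver_of_le (p := r)
      (q := Q.comap (algebraMap A B)) hle
    obtain rfl : Q' = Q := le_antisymm hQ' (hQ.2 ⟨hQ'p, bot_le⟩ hQ')
    exact hQ'r.1.ge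
  have hlift : ∀ (Ω : Type u) [Field Ω] [IsAlgClosed Ω] (ψ : B →+* Ω), Good (RingHom.ker ψ) →
      Subsingleton (Σ p, {τ : T p →+* Ω // τ.comp (algebraMap B (T p)) = ψ}) ∧
      Nonempty (Σ p, {τ : T p →+* Ω // τ.comp (algebraMap B (T p)) = ψ}) := by
    intro Ω _ _ ψ hψ
    have hψA : RingHom.ker (ψ.comp (algebraMap A B)) ∈ minimalPrimes A := by
      rw [← RingHom.comap_ker]; exact hψ
    have hsub : ∀ (p : minimalPrimes A) (τ : Sum.Nrm A p.1 →+* Ω),
        τ.comp (Sum.toNrm A p.1) = ψ.comp (algebraMap A B) →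
          p = ⟨_, hψA⟩ := by
      intro p τ hτ
      have hle : p.1 ≤ RingHom.ker (ψ.comp (algebraMap A B)) := fun a ha => by
        rw [RingHom.mem_ker, ← hτ, RingHom.comp_apply, Sum.toNrm, RingHom.comp_apply,
          Ideal.Quotient.eq_zero_iff_mem.2 ha, map_zero, map_zero]
      exact Subtype.ext (le_antisymm hle (hψA.2 ⟨p.2.1.1, bot_le⟩ hle))
    refine ⟨⟨fun a b => ?_⟩, ?_⟩
    · obtain ⟨p, τ⟩ := a
      obtain ⟨p', σ⟩ := b
      obtain ⟨e⟩ := hpts p Ω ψ
      obtain ⟨e'⟩ := hpts p' Ω ψ
      obtain rfl : p = p' := (hsub p _ (e τ).2).trans (hsub p' _ (e' σ).2).symm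
      refine congrArg _ (e.injective (Subtype.ext ?_))
      haveI := p.2.1.1
      refine lift_unique (A ⧸ p.1) Ω _ _ ?_ ((RingHom.cancel_right
        Ideal.Quotient.mk_surjective).1 ?_)
      · rw [injective_iff_map_eq_zero]
        intro a ha
        obtain ⟨a, rfl⟩ := Ideal.Quotient.mk_surjective a
        rw [Ideal.Quotient.eq_zero_iff_mem]
        have hp := hsub p _ (e τ).2
        rw [show p.1 = RingHom.ker (ψ.comp (algebraMap A B)) from congrArg Subtype.val hp,
          RingHom.mem_ker, ← (e τ).2]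
        exact ha
      · rw [RingHom.comp_assoc, RingHom.comp_assoc]
        exact (e τ).2.trans (e σ).2.symm
    · let p : minimalPrimes A := ⟨_, hψA⟩
      haveI := p.2.1.1
      obtain ⟨τ, hτ⟩ := Points.exists_lift (A ⧸ p.1) (Sum.Nrm A p.1) Ω
        (Ideal.Quotient.lift p.1 (ψ.comp (algebraMap A B)) fun a ha => ha) (by
          have : RingHom.ker (algebraMap (A ⧸ p.1) (Sum.Nrm A p.1)) = ⊥ :=
            (RingHom.injective_iff_ker_eq_bot _).1 fun a b h =>
              IsFractionRing.injective (A ⧸ p.1) (FractionRing (A ⧸ p.1)) (congrArg Subtype.val h)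
          rw [this]; exact bot_le)
      obtain ⟨e⟩ := hpts p Ω ψ
      refine ⟨⟨p, e.symm ⟨τ, ?_⟩⟩⟩
      rw [Sum.toNrm, ← RingHom.comp_assoc, hτ, Ideal.Quotient.lift_comp_mk]
  have hnormT : ∀ p, EGA4.IsNormalRing (T p) := fun p =>
    Lib.Excellent.NormalRing.isNormalRing_of_isLocalization
      (q.primeCompl.map (ρ p : A ⊗[k] K →* M p)) (hnorm p)
  have hcard : ENat.card (Σ p : minimalPrimes A,
      {τ : T p →+* AlgebraicClosure (ResidueField B) //
        τ.comp (algebraMap B (T p)) = Brnch.toClosure B}) = Brnch.numGeomBranches A := by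
    rw [Sum.numGeomBranches_eq_card A hfinA]
    let j₀ : ResidueField A →+* AlgebraicClosure (ResidueField B) :=
      (algebraMap (ResidueField B) _).comp (ResidueField.map (algebraMap A B))
    letI := j₀.toAlgebra
    let j : AlgebraicClosure (ResidueField A) →ₐ[ResidueField A] AlgebraicClosure (ResidueField B) :=
      IsAlgClosed.lift
    have hj : j.toRingHom.comp (Brnch.toClosure A) = (Brnch.toClosure B).comp (algebraMap A B) :=
      RingHom.ext fun a => (j.commutes (residue A a)).trans rfl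
    refine (ENat.card_congr (Equiv.sigmaCongrRight fun p => Classical.choice ?_)).symm
    obtain ⟨e⟩ := hpts p (AlgebraicClosure (ResidueField B)) (Brnch.toClosure B)
    refine ⟨Equiv.trans (Equiv.ofBijective
      (fun τ => (⟨j.toRingHom.comp τ.1, by rw [RingHom.comp_assoc, τ.2, hj]⟩ :
        {τ : Sum.Nrm A p.1 →+* AlgebraicClosure (ResidueField B) //
          τ.comp (Sum.toNrm A p.1) = (Brnch.toClosure B).comp (algebraMap A B)})) ⟨?_, ?_⟩) e.symm⟩
    · intro τ σ h
      exact Subtype.ext (RingHom.ext fun z => j.toRingHom.injective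
        (RingHom.congr_fun (congrArg Subtype.val h) z))
    · rintro ⟨σ, hσ⟩
      have hmem : ∀ z, σ z ∈ j.toRingHom.range := fun z => by
        refine Points.mem_range_of_isIntegral j.toRingHom ?_
        haveI := p.2.1.1
        obtain ⟨f, hf, hfz⟩ := Algebra.IsIntegral.isIntegral (R := A ⧸ p.1) z
        obtain ⟨g, hg, -, hgm⟩ := Polynomial.lifts_and_degree_eq_and_monic
          (f := Ideal.Quotient.mk p.1) (p := f)
          (by rw [Polynomial.lifts_iff_coeff_lifts]; exact fun n => Ideal.Quotient.mk_surjective _) hf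
        refine ⟨g.map (Brnch.toClosure A), hgm.map _, ?_⟩
        rw [Polynomial.eval₂_map, hj, ← hσ, ← Polynomial.hom_eval₂]
        rw [show (Sum.toNrm A p.1) = (algebraMap (A ⧸ p.1) (Sum.Nrm A p.1)).comp
          (Ideal.Quotient.mk p.1) from rfl, ← Polynomial.eval₂_map, hg, hfz, map_zero]
      choose g hg using hmem
      refine ⟨⟨{ toFun := g, map_one' := ?_, map_mul' := fun a b => ?_, map_zero' := ?_,
                 map_add' := fun a b => ?_ }, RingHom.ext fun a => ?_⟩, Subtype.ext (RingHom.ext hg)⟩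
      · exact j.toRingHom.injective (by rw [hg, map_one, map_one])
      · exact j.toRingHom.injective (by rw [hg, map_mul, map_mul, hg, hg])
      · exact j.toRingHom.injective (by rw [hg, map_zero, map_zero])
      · exact j.toRingHom.injective (by rw [hg, map_add, map_add, hg, hg])
      · refine j.toRingHom.injective ?_
        show j.toRingHom (g _) = _
        rw [hg]
        exact (RingHom.congr_fun hσ a).trans (RingHom.congr_fun hj a).symm
  have hfinB : (minimalPrimes B).Finite := hfin.elim id fun hA =>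
    Sum.finite_minimalPrimes B T hnormT Good hmin (fun Ω _ _ ψ hψ => (hlift Ω ψ hψ).2)
      (not_infinite_iff_finite.1 fun hi => hA (hcard.symm.trans (ENat.card_eq_top_of_infinite)))
  refine (Sum.numGeomBranches_eq_points k B hfinB (ringExpChar k) T hnormT Good hmin
    (fun Q' Q hQ' hle hG => ?_) (fun p P hP => ?_) hlift).trans hcard
  · show Q'.comap (algebraMap A B) ∈ minimalPrimes A
    haveI := hQ'
    have h1 := le_antisymm (Ideal.comap_mono hle)
      (hG.2 ⟨Ideal.IsPrime.comap _, bot_le⟩ (Ideal.comap_mono hle))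
    rw [h1]
    exact hG
  · show (P.comap (algebraMap B (T p))).comap (algebraMap A B) ∈ minimalPrimes A
    haveI := hP.1.1
    have hP' : P.comap (algebraMap (M p) (T p)) ∈ minimalPrimes (M p) := by
      refine ⟨⟨Ideal.IsPrime.comap _, bot_le⟩, fun Q' ⟨hQ', _⟩ hle => ?_⟩
      haveI := hQ'
      have hd : Disjoint ((q.primeCompl.map (ρ p : A ⊗[k] K →* M p) : Submonoid (M p)) : Set (M p))
          (Q' : Set (M p)) := by
        refine Set.disjoint_left.2 fun y hy hyQ => ?_
        exact Ideal.IsPrime.ne_top ‹P.IsPrime› (Ideal.eq_top_of_isUnit_mem _ (hle hyQ)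
          (IsLocalization.map_units (T p) ⟨y, hy⟩))
      have h1 := IsLocalization.isPrime_of_isPrime_disjoint _ (T p) Q' hQ' hd
      have h2 : Q'.map (algebraMap (M p) (T p)) ≤ P := Ideal.map_le_iff_le_comap.2 hle
      have h3 := le_antisymm h2 (hP.2 ⟨h1, bot_le⟩ h2)
      rw [← h3]
      exact le_of_eq (IsLocalization.comap_map_of_isPrime_disjoint _ (T p) ‹Q'.IsPrime› hd)
    rw [Ideal.comap_comap, IsScalarTower.algebraMap_eq A (A ⊗[k] K) B, ← RingHom.comp_assoc,
      RingHom.algebraMap_toAlgebra, htf p, RingHom.comp_assoc, ← Ideal.comap_comap,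
      hminM p _ hP']
    exact p.2

/-- The same, for Noetherian rings. -/
theorem numGeomBranches_eq [IsLocalRing A] [IsNoetherianRing A] (q : Ideal (A ⊗[k] K)) [q.IsPrime]
    (hq : q.comap (algebraMap A (A ⊗[k] K)) = maximalIdeal A)
    (hfinB : (minimalPrimes (Localization.AtPrime q)).Finite) :
    Brnch.numGeomBranches (Localization.AtPrime q) = Brnch.numGeomBranches A :=
  numGeomBranches_eq' k K A q hq (minimalPrimes.finite_of_isNoetherianRing A) (Or.inl hfinB)

end Groth.Agent.H25.Branch.Main
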