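import Mathlib.FieldTheory.IsAlgClosed.AlgebraicClosure
import Mathlib.FieldTheory.IsAlgClosed.Basic
import Mathlib.RingTheory.Ideal.GoingUp
import Mathlib.RingTheory.LocalRing.ResidueField.Ideal
import Mathlib.RingTheory.LocalRing.ResidueField.Instances
import Mathlib.FieldTheory.PurelyInseparable.Basic
import Mathlib.Algebra.CharP.Frobenius

/-! Geometric points of integral ring extensions. -/

set_option autoImplicit false
set_option linter.style.haveILetI false
universe u

namespace Groth.Agent.H25.Branch.Points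

/-- A geometric point lifts along an integral map whose kernel it kills. -/
theorem exists_lift (R S Ω : Type u) [CommRing R] [CommRing S] [Field Ω] [IsAlgClosed Ω]
    [Algebra R S] [Algebra.IsIntegral R S] (ψ : R →+* Ω)
    (h : RingHom.ker (algebraMap R S) ≤ RingHom.ker ψ) :
    ∃ τ : S →+* Ω, τ.comp (algebraMap R S) = ψ := by
  haveI : (RingHom.ker ψ).IsPrime := RingHom.ker_isPrime ψ
  obtain ⟨Q, -, hQ, hcomap⟩ :=
    Ideal.exists_ideal_over_prime_of_isIntegral (RingHom.ker ψ) (⊥ : Ideal S) h
  haveI := hQ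
  haveI : Q.LiesOver (RingHom.ker ψ) := ⟨hcomap.symm⟩
  letI : Algebra (Localization.AtPrime (RingHom.ker ψ)) (Localization.AtPrime Q) :=
    Localization.AtPrime.algebraOfLiesOver (RingHom.ker ψ) Q
  let g : (RingHom.ker ψ).ResidueField →+* Ω :=
    Ideal.ResidueField.lift (RingHom.ker ψ) ψ le_rfl fun x hx =>
      isUnit_iff_ne_zero.2 (fun h0 => hx (RingHom.mem_ker.2 h0))
  letI := g.toAlgebra
  haveI : Algebra.IsAlgebraic (RingHom.ker ψ).ResidueField Q.ResidueField := inferInstance
  let l : Q.ResidueField →ₐ[(RingHom.ker ψ).ResidueField] Ω := IsAlgClosed.lift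
  refine ⟨l.toRingHom.comp (algebraMap S Q.ResidueField), RingHom.ext fun r => ?_⟩
  show l (algebraMap S Q.ResidueField (algebraMap R S r)) = ψ r
  rw [← IsScalarTower.algebraMap_apply R S Q.ResidueField,
    IsScalarTower.algebraMap_apply R (RingHom.ker ψ).ResidueField Q.ResidueField, AlgHom.commutes]
  exact Ideal.ResidueField.lift_algebraMap (RingHom.ker ψ) ψ _ _ r

/-- A geometric point with prescribed kernel lifts along an integral map. -/
theorem exists_lift_ker (R S Ω : Type u) [CommRing R] [CommRing S] [Field Ω] [IsAlgClosed Ω]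
    [Algebra R S] [Algebra.IsIntegral R S] (ψ : R →+* Ω) (P : Ideal S) [P.IsPrime]
    (h : P.comap (algebraMap R S) = RingHom.ker ψ) :
    ∃ τ : S →+* Ω, τ.comp (algebraMap R S) = ψ ∧ RingHom.ker τ = P := by
  haveI : Algebra.IsIntegral R (S ⧸ P) :=
    Algebra.IsIntegral.trans S
  obtain ⟨τ, hτ⟩ := exists_lift R (S ⧸ P) Ω ψ (by
    rw [IsScalarTower.algebraMap_eq R S (S ⧸ P), ← RingHom.comap_ker, Ideal.Quotient.algebraMap_eq,
      Ideal.mk_ker, h])
  have hcomp : (τ.comp (Ideal.Quotient.mk P)).comp (algebraMap R S) = ψ := by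
    rw [← hτ]; rfl
  refine ⟨τ.comp (Ideal.Quotient.mk P), hcomp, ?_⟩
  have hle : P ≤ RingHom.ker (τ.comp (Ideal.Quotient.mk P)) := fun x hx => by
    rw [RingHom.mem_ker, RingHom.comp_apply, Ideal.Quotient.eq_zero_iff_mem.2 hx, map_zero]
  haveI : (RingHom.ker (τ.comp (Ideal.Quotient.mk P))).IsPrime := RingHom.ker_isPrime _
  by_contra hne
  obtain ⟨x, hxk, hxP⟩ := SetLike.exists_of_lt (lt_of_le_of_ne hle (Ne.symm hne))
  refine absurd ?_ (Ideal.comap_lt_comap_of_integral_mem_sdiff (R := R) hle ⟨hxk, hxP⟩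
    (Algebra.IsIntegral.isIntegral x)).ne
  rw [h, RingHom.comap_ker, hcomp]

/-- Geometric points are determined on a subring containing `q^n`-th powers. -/
theorem ext_of_pow {R S Ω : Type u} [CommRing R] [CommRing S] [Field Ω] (q : ℕ) [ExpChar Ω q]
    (f : R →+* S) (τ σ : S →+* Ω) (h : τ.comp f = σ.comp f)
    (hS : ∀ z, ∃ (n : ℕ) (r : R), z ^ q ^ n = f r) : τ = σ := by
  refine RingHom.ext fun z => ?_
  obtain ⟨n, r, hr⟩ := hS z
  refine iterateFrobenius_inj Ω q n ?_
  rw [iterateFrobenius_def, iterateFrobenius_def, ← map_pow, ← map_pow, hr]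
  exact RingHom.congr_fun h r

/-- Elements of an algebraically closed field which are integral over an algebraically closed
subfield lie in it. -/
theorem mem_range_of_isIntegral {L Ω : Type u} [Field L] [IsAlgClosed L] [Field Ω] (j : L →+* Ω)
    {x : Ω} (hx : j.IsIntegralElem x) : x ∈ j.range := by
  letI := j.toAlgebra
  have hx' : IsIntegral L x := hx
  exact minpoly.mem_range_of_degree_eq_one L x
    (IsAlgClosed.degree_eq_one_of_irreducible L (minpoly.irreducible hx'))

end Groth.Agent.H25.Branch.Points
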