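import Groth.Agent.H25.Branch.Component
import Groth.Agent.H25.NormRed
import Groth.Agent.Lib.Unram.BranchSum

/-!
Geometric branches as geometric points of normal rings lying over the local ring.
-/

set_option autoImplicit false
set_option linter.style.haveILetI false
set_option linter.deprecated false
universe u

namespace Groth.Agent.H25.Branch.Sum

open IsLocalRing

/-- The normalisation of `B/Q`. -/
abbrev Nrm (B : Type u) [CommRing B] (Q : Ideal B) : Type u :=
  integralClosure (B ⧸ Q) (FractionRing (B ⧸ Q))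

/-- The map to the normalisation of `B/Q`. -/
noncomputable def toNrm (B : Type u) [CommRing B] (Q : Ideal B) : B →+* Nrm B Q :=
  (algebraMap (B ⧸ Q) (Nrm B Q)).comp (Ideal.Quotient.mk Q)

/-- Geometric branches are geometric points of the normalisations of the components. -/
theorem numGeomBranches_eq_card (B : Type u) [CommRing B] [IsLocalRing B]
    (h : (minimalPrimes B).Finite) :
    Brnch.numGeomBranches B = ENat.card (Σ Q : minimalPrimes B,
      {τ : Nrm B Q.1 →+* AlgebraicClosure (ResidueField B) //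
        τ.comp (toNrm B Q.1) = Brnch.toClosure B}) := by
  classical
  haveI : Finite (minimalPrimes B) := h.to_subtype
  obtain ⟨e, he⟩ := Lib.Unram.BranchSum.exists_normRed_equiv B h
  have hC : ∀ Q : minimalPrimes B, ∃ ε : Nrm B Q.1 ≃+* CAlg2.normRed (B ⧸ Q.1), ∀ b : B,
      ε (toNrm B Q.1 b) = Lib.Unram.BranchSum.toNorm (B ⧸ Q.1) (Ideal.Quotient.mk Q.1 b) := fun Q => by
    haveI := Q.2.1.1
    obtain ⟨ε, hε⟩ := NormRed.exists_normRed_equiv (B ⧸ Q.1) (B ⧸ Q.1) (RingEquiv.refl _)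
    exact ⟨ε, fun b => hε _⟩
  choose ε hε using hC
  let E := e.trans (RingEquiv.piCongrRight fun Q => (ε Q).symm)
  have hE : E.toRingHom.comp (Lib.Unram.BranchSum.toNorm B) =
      Pi.ringHom fun Q : minimalPrimes B => toNrm B Q.1 := RingHom.ext fun b => funext fun Q => by
    show (ε Q).symm (e (Lib.Unram.BranchSum.toNorm B b) Q) = _
    rw [he, ← hε Q b, RingEquiv.symm_apply_apply]
    rfl
  obtain ⟨E₀⟩ := Lib.Unram.BranchSum.exists_emb_equiv B
  obtain ⟨E₁⟩ := Lib.Unram.BranchSum.exists_hom_pi_equiv (fun Q : minimalPrimes B => Nrm B Q.1) B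
    (AlgebraicClosure (ResidueField B)) (fun Q => toNrm B Q.1) (Brnch.toClosure B)
  rw [Brnch.numGeomBranches, if_pos h]
  refine ENat.card_congr (E₀.trans (Equiv.trans ?_ E₁.symm))
  exact
    { toFun := fun τ => ⟨τ.1.comp E.symm.toRingHom, by
        rw [← hE, RingHom.comp_assoc, ← RingHom.comp_assoc (Lib.Unram.BranchSum.toNorm B)]
        simpa using τ.2⟩
      invFun := fun τ => ⟨τ.1.comp E.toRingHom, by rw [RingHom.comp_assoc, hE]; exact τ.2⟩
      left_inv := fun τ => Subtype.ext (RingHom.ext fun x => by simp)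
      right_inv := fun τ => Subtype.ext (RingHom.ext fun x => by simp) }

/-- If there are only finitely many geometric points of the family over the closed point, then
there are only finitely many minimal primes. -/
theorem finite_minimalPrimes (B : Type u) [CommRing B] [IsLocalRing B]
    {ι : Type u} (S : ι → Type u) [∀ i, CommRing (S i)] [∀ i, Algebra B (S i)]
    [∀ i, Algebra.IsIntegral B (S i)] (hS : ∀ i, EGA4.IsNormalRing (S i))
    (Good : Ideal B → Prop) (hmin : ∀ Q ∈ minimalPrimes B, Good Q)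
    (hlift : ∀ (Ω : Type u) [Field Ω] [IsAlgClosed Ω] (ψ : B →+* Ω), Good (RingHom.ker ψ) →
      Nonempty (Σ i, {τ : S i →+* Ω // τ.comp (algebraMap B (S i)) = ψ}))
    (hfin : Finite (Σ i, {τ : S i →+* AlgebraicClosure (ResidueField B) //
      τ.comp (algebraMap B (S i)) = Brnch.toClosure B})) :
    (minimalPrimes B).Finite := by
  classical
  have key : ∀ Q : minimalPrimes B, ∃ x : Σ i, {τ : S i →+* AlgebraicClosure (ResidueField B) //
      τ.comp (algebraMap B (S i)) = Brnch.toClosure B}, ∃ P ∈ minimalPrimes (S x.1),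
      P ≤ RingHom.ker x.2.1 ∧ P.comap (algebraMap B (S x.1)) = Q.1 := fun Q => by
    haveI := Q.2.1.1
    let Ω := AlgebraicClosure Q.1.ResidueField
    let ψ : B →+* Ω := (algebraMap Q.1.ResidueField Ω).comp (algebraMap B Q.1.ResidueField)
    have hk : RingHom.ker ψ = Q.1 := by
      ext b
      rw [RingHom.mem_ker, RingHom.comp_apply, map_eq_zero, Ideal.algebraMap_residueField_eq_zero]
    obtain ⟨⟨j, τ, hτ⟩⟩ := hlift Ω ψ (hk.symm ▸ hmin _ Q.2)
    haveI : (RingHom.ker τ).IsPrime := RingHom.ker_isPrime τ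
    obtain ⟨P, hP, hle⟩ := Ideal.exists_minimalPrimes_le (I := (⊥ : Ideal (S j)))
      (J := RingHom.ker τ) bot_le
    haveI := hP.1.1
    have hc : P.comap (algebraMap B (S j)) = Q.1 := by
      have h1 : P.comap (algebraMap B (S j)) ≤ Q.1 := by
        refine (Ideal.comap_mono hle).trans_eq ?_
        rw [RingHom.comap_ker, hτ, hk]
      exact le_antisymm h1 (Q.2.2 ⟨Ideal.IsPrime.comap _, bot_le⟩ h1)
    haveI : Algebra.IsIntegral B (S j ⧸ P) := Algebra.IsIntegral.trans (S j)
    obtain ⟨σ, hσ⟩ := Points.exists_lift B (S j ⧸ P) _ (Brnch.toClosure B) (by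
      rw [IsScalarTower.algebraMap_eq B (S j) (S j ⧸ P), ← RingHom.comap_ker,
        Ideal.Quotient.algebraMap_eq, Ideal.mk_ker, hc]
      intro b hb
      rw [RingHom.mem_ker, show Brnch.toClosure B b =
        algebraMap (ResidueField B) _ (residue B b) from rfl,
        (IsLocalRing.residue_eq_zero_iff b).2 (IsLocalRing.le_maximalIdeal
          (Ideal.IsPrime.ne_top ‹Q.1.IsPrime›) hb), map_zero])
    refine ⟨⟨j, σ.comp (Ideal.Quotient.mk P), ?_⟩, P, hP, fun x hx => ?_, hc⟩
    · rw [← hσ]; rfl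
    · rw [RingHom.mem_ker]
      show σ (Ideal.Quotient.mk P x) = 0
      rw [Ideal.Quotient.eq_zero_iff_mem.2 hx, map_zero]
  choose x P hP hle hc using key
  refine Set.finite_coe_iff.1 (Finite.of_injective x fun Q Q' h => Subtype.ext ?_)
  have main : ∀ (y y' : Σ i, {τ : S i →+* AlgebraicClosure (ResidueField B) //
      τ.comp (algebraMap B (S i)) = Brnch.toClosure B}) (R : Ideal (S y.1)) (R' : Ideal (S y'.1)),
      y = y' → R ∈ minimalPrimes (S y.1) → R ≤ RingHom.ker y.2.1 → R' ∈ minimalPrimes (S y'.1) →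
      R' ≤ RingHom.ker y'.2.1 →
      R.comap (algebraMap B (S y.1)) = R'.comap (algebraMap B (S y'.1)) := by
    rintro y y' R R' rfl hR hle hR' hle'
    haveI : (RingHom.ker y.2.1).IsPrime := RingHom.ker_isPrime _
    rw [(Component.minimalPrime_eq (hS y.1) hR _ hle).trans
      (Component.minimalPrime_eq (hS y.1) hR' _ hle').symm]
  rw [← hc Q, ← hc Q']
  exact main _ _ _ _ h (hP Q) (hle Q) (hP Q') (hle Q')

/-- **Geometric branches via a family of normal rings.**  `Good` is a class of primes, containing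
the minimal ones and stable under generisation, over which geometric points lift uniquely. -/
theorem numGeomBranches_eq_points (k B : Type u) [Field k] [CommRing B] [IsLocalRing B]
    [Algebra k B] (hfin : (minimalPrimes B).Finite) (q : ℕ) [ExpChar k q]
    {ι : Type u} (S : ι → Type u) [∀ i, CommRing (S i)] [∀ i, Algebra B (S i)]
    [∀ i, Algebra.IsIntegral B (S i)] (hS : ∀ i, EGA4.IsNormalRing (S i))
    (Good : Ideal B → Prop) (hmin : ∀ Q ∈ minimalPrimes B, Good Q)
    (hdown : ∀ Q' Q : Ideal B, Q'.IsPrime → Q' ≤ Q → Good Q → Good Q')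
    (hgood : ∀ i, ∀ P ∈ minimalPrimes (S i), Good (P.comap (algebraMap B (S i))))
    (hpts : ∀ (Ω : Type u) [Field Ω] [IsAlgClosed Ω] (ψ : B →+* Ω), Good (RingHom.ker ψ) →
      Subsingleton (Σ i, {τ : S i →+* Ω // τ.comp (algebraMap B (S i)) = ψ}) ∧
      Nonempty (Σ i, {τ : S i →+* Ω // τ.comp (algebraMap B (S i)) = ψ})) :
    Brnch.numGeomBranches B = ENat.card (Σ i, {τ : S i →+* AlgebraicClosure (ResidueField B) //
      τ.comp (algebraMap B (S i)) = Brnch.toClosure B}) := by
  classical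
  -- two primes of the family with the same good contraction coincide
  have hinj : ∀ (i j : ι) (P : Ideal (S i)) (P' : Ideal (S j)) [P.IsPrime] [P'.IsPrime],
      P.comap (algebraMap B (S i)) = P'.comap (algebraMap B (S j)) →
      Good (P.comap (algebraMap B (S i))) →
      (⟨i, P⟩ : Σ i, Ideal (S i)) = ⟨j, P'⟩ := by
    intro i j P P' _ _ heq hG
    set Q := P.comap (algebraMap B (S i)) with hQ
    let Ω := AlgebraicClosure Q.ResidueField
    let ψ : B →+* Ω := (algebraMap Q.ResidueField Ω).comp (algebraMap B Q.ResidueField)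
    have hk : RingHom.ker ψ = Q := by
      ext b
      rw [RingHom.mem_ker, RingHom.comp_apply, map_eq_zero, Ideal.algebraMap_residueField_eq_zero]
    obtain ⟨τ, hτ, hτk⟩ := Points.exists_lift_ker B (S i) Ω ψ P hk.symm
    obtain ⟨σ, hσ, hσk⟩ := Points.exists_lift_ker B (S j) Ω ψ P' (heq.symm.trans hk.symm)
    haveI := (hpts Ω ψ (hk.symm ▸ hG)).1
    have h := Subsingleton.elim (α := Σ i, {τ : S i →+* Ω // τ.comp (algebraMap B (S i)) = ψ})
      ⟨i, τ, hτ⟩ ⟨j, σ, hσ⟩
    obtain rfl : i = j := congrArg Sigma.fst h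
    have h' := eq_of_heq (Sigma.mk.inj h).2
    rw [← hτk, ← hσk, show τ = σ from congrArg Subtype.val h']
  have hmem : ∀ i, ∀ P ∈ minimalPrimes (S i),
      P.comap (algebraMap B (S i)) ∈ minimalPrimes B := by
    intro i P hP
    haveI := hP.1.1
    refine ⟨⟨Ideal.IsPrime.comap _, bot_le⟩, fun Q' ⟨hQ', _⟩ hle => ?_⟩
    haveI := hQ'
    have hG' := hdown Q' _ hQ' hle (hgood i P hP)
    let Ω := AlgebraicClosure Q'.ResidueField
    let ψ : B →+* Ω := (algebraMap Q'.ResidueField Ω).comp (algebraMap B Q'.ResidueField)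
    have hk : RingHom.ker ψ = Q' := by
      ext b
      rw [RingHom.mem_ker, RingHom.comp_apply, map_eq_zero, Ideal.algebraMap_residueField_eq_zero]
    obtain ⟨⟨j, τ, hτ⟩⟩ := (hpts Ω ψ (hk.symm ▸ hG')).2
    haveI : (RingHom.ker τ).IsPrime := RingHom.ker_isPrime τ
    have hτc : (RingHom.ker τ).comap (algebraMap B (S j)) = Q' := by
      rw [RingHom.comap_ker, hτ, hk]
    obtain ⟨P'', hP''le, hP'', hP''c⟩ := Ideal.exists_ideal_over_prime_of_isIntegral
      (P.comap (algebraMap B (S i))) (RingHom.ker τ) (hτc.trans_le hle)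
    haveI := hP''
    have h := hinj i j P P'' hP''c.symm (hgood i P hP)
    obtain rfl : i = j := congrArg Sigma.fst h
    obtain rfl : P = P'' := eq_of_heq (Sigma.mk.inj h).2
    have hPeq : RingHom.ker τ = P := le_antisymm hP''le (hP.2 ⟨inferInstance, bot_le⟩ hP''le)
    rw [← hPeq, hτc]
  let Φ : (Σ i, minimalPrimes (S i)) → minimalPrimes B := fun p =>
    ⟨p.2.1.comap (algebraMap B (S p.1)), hmem p.1 _ p.2.2⟩
  have hΦ : Function.Bijective Φ := by
    refine ⟨?_, fun Q => ?_⟩
    · rintro ⟨i, P⟩ ⟨j, P'⟩ h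
      haveI := P.2.1.1
      haveI := P'.2.1.1
      have h' := hinj i j P.1 P'.1 (congrArg Subtype.val h) (hgood i _ P.2)
      obtain rfl : i = j := congrArg Sigma.fst h'
      exact congrArg _ (Subtype.ext (eq_of_heq (Sigma.mk.inj h').2))
    · haveI := Q.2.1.1
      let Ω := AlgebraicClosure Q.1.ResidueField
      let ψ : B →+* Ω := (algebraMap Q.1.ResidueField Ω).comp (algebraMap B Q.1.ResidueField)
      have hk : RingHom.ker ψ = Q.1 := by
        ext b
        rw [RingHom.mem_ker, RingHom.comp_apply, map_eq_zero, Ideal.algebraMap_residueField_eq_zero]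
      obtain ⟨⟨j, τ, hτ⟩⟩ := (hpts Ω ψ (hk.symm ▸ hmin _ Q.2)).2
      haveI : (RingHom.ker τ).IsPrime := RingHom.ker_isPrime τ
      obtain ⟨P, hP, hle⟩ := Ideal.exists_minimalPrimes_le (I := (⊥ : Ideal (S j)))
        (J := RingHom.ker τ) bot_le
      haveI := hP.1.1
      refine ⟨⟨j, P, hP⟩, Subtype.ext ?_⟩
      have hc : P.comap (algebraMap B (S j)) ≤ Q.1 := by
        refine (Ideal.comap_mono hle).trans_eq ?_
        rw [RingHom.comap_ker, hτ, hk]
      exact le_antisymm hc (Q.2.2 ⟨Ideal.IsPrime.comap _, bot_le⟩ hc)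
  -- decomposition of the points
  set κ := AlgebraicClosure (ResidueField B)
  set ψ₀ := Brnch.toClosure B
  haveI hκ : ExpChar κ q :=
    expChar_of_injective_ringHom ((ψ₀.comp (algebraMap k B)).injective) q
  let G : (Σ p : (Σ i, minimalPrimes (S i)),
      {τ : (S p.1 ⧸ p.2.1) →+* κ // τ.comp (algebraMap B (S p.1 ⧸ p.2.1)) = ψ₀}) →
      Σ i, {τ : S i →+* κ // τ.comp (algebraMap B (S i)) = ψ₀} :=
    fun p => ⟨p.1.1, p.2.1.comp (Ideal.Quotient.mk p.1.2.1), RingHom.ext fun b =>
      RingHom.congr_fun p.2.2 b⟩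
  have hG : Function.Bijective G := by
    refine ⟨?_, fun ⟨i, τ, hτ⟩ => ?_⟩
    · rintro ⟨⟨i, P⟩, τ, hτ⟩ ⟨⟨j, P'⟩, σ, hσ⟩ h
      obtain rfl : i = j := congrArg Sigma.fst h
      have h' : τ.comp (Ideal.Quotient.mk P.1) = σ.comp (Ideal.Quotient.mk P'.1) :=
        congrArg Subtype.val (eq_of_heq (Sigma.mk.inj h).2)
      haveI : (RingHom.ker (τ.comp (Ideal.Quotient.mk P.1))).IsPrime := RingHom.ker_isPrime _
      have hle : ∀ (R' : Ideal (S i)) (ρ : (S i ⧸ R') →+* κ),
          R' ≤ RingHom.ker (ρ.comp (Ideal.Quotient.mk R')) := fun R' ρ x hx => by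
        rw [RingHom.mem_ker, RingHom.comp_apply, Ideal.Quotient.eq_zero_iff_mem.2 hx, map_zero]
      obtain rfl : P = P' := Subtype.ext <|
        (Component.minimalPrime_eq (hS i) P.2 _ (hle P.1 τ)).trans
          (Component.minimalPrime_eq (hS i) P'.2 _ ((hle P'.1 σ).trans_eq (by rw [h']))).symm
      obtain rfl : τ = σ := (RingHom.cancel_right Ideal.Quotient.mk_surjective).1 h'
      rfl
    · haveI : (RingHom.ker τ).IsPrime := RingHom.ker_isPrime τ
      obtain ⟨P, hP, hle⟩ := Ideal.exists_minimalPrimes_le (I := (⊥ : Ideal (S i)))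
        (J := RingHom.ker τ) bot_le
      refine ⟨⟨⟨i, P, hP⟩, Ideal.Quotient.lift P τ fun a ha => hle ha,
        RingHom.ext fun b => RingHom.congr_fun hτ b⟩, ?_⟩
      exact congrArg (Sigma.mk i) (Subtype.ext (Ideal.Quotient.lift_comp_mk P τ _))
  rw [numGeomBranches_eq_card B hfin, ← ENat.card_congr (Equiv.ofBijective G hG)]
  refine (ENat.card_congr (Equiv.sigmaCongr (Equiv.ofBijective Φ hΦ) fun p => Classical.choice ?_)).symm
  obtain ⟨i, P, hP⟩ := p
  haveI := hP.1.1
  set Q : Ideal B := P.comap (algebraMap B (S i)) with hQ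
  haveI : Q.IsPrime := Ideal.IsPrime.comap _
  show Nonempty ({τ : (S i ⧸ P) →+* κ // τ.comp (algebraMap B (S i ⧸ P)) = ψ₀} ≃
    {τ : Nrm B Q →+* κ // τ.comp (toNrm B Q) = ψ₀})
  haveI : IsIntegrallyClosed (S i ⧸ P) := Component.isIntegrallyClosed_quotient (hS i) P hP
  letI : Algebra (B ⧸ Q) (S i ⧸ P) := (Ideal.quotientMap P (algebraMap B (S i)) le_rfl).toAlgebra
  haveI : IsScalarTower B (B ⧸ Q) (S i ⧸ P) := IsScalarTower.of_algebraMap_eq fun b => rfl
  haveI : Algebra.IsIntegral B (S i ⧸ P) := Algebra.IsIntegral.trans (S i)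
  haveI : Algebra.IsIntegral (B ⧸ Q) (S i ⧸ P) := Algebra.IsIntegral.tower_top (R := B)
  have hQi : Function.Injective (algebraMap (B ⧸ Q) (S i ⧸ P)) := Ideal.quotientMap_injective
  haveI : ExpChar (FractionRing (B ⧸ Q)) q :=
    expChar_of_injective_ringHom
      (((algebraMap B (FractionRing (B ⧸ Q))).comp (algebraMap k B)).injective) q
  have hψQ : ∀ b ∈ Q, ψ₀ b = 0 := fun b hb => by
    have : b ∈ maximalIdeal B := IsLocalRing.le_maximalIdeal (Ideal.IsPrime.ne_top ‹_›) hb
    rw [show ψ₀ b = algebraMap (ResidueField B) κ (residue B b) from rfl,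
      (IsLocalRing.residue_eq_zero_iff b).2 this, map_zero]
  let ψQ : B ⧸ Q →+* κ := Ideal.Quotient.lift Q ψ₀ hψQ
  obtain ⟨e⟩ := Component.exists_points_equiv (B ⧸ Q) (S i ⧸ P) hQi q (fun Ω _ _ τ σ hτ hσ h => by
    let ψ : B →+* Ω := (τ.comp (Ideal.Quotient.mk P)).comp (algebraMap B (S i))
    have hk : RingHom.ker ψ = Q := by
      rw [← RingHom.comap_ker, ← RingHom.comap_ker, hτ, ← RingHom.ker_eq_comap_bot, Ideal.mk_ker]
    haveI := (hpts Ω ψ (hk.symm ▸ hgood i P hP)).1
    have h2 := Subsingleton.elim (α := Σ j, {τ : S j →+* Ω // τ.comp (algebraMap B (S j)) = ψ})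
      ⟨i, τ.comp (Ideal.Quotient.mk P), rfl⟩ ⟨i, σ.comp (Ideal.Quotient.mk P),
        RingHom.ext fun b => (RingHom.congr_fun h (Ideal.Quotient.mk Q b)).symm⟩
    exact (RingHom.cancel_right Ideal.Quotient.mk_surjective).1
      (congrArg Subtype.val (eq_of_heq (Sigma.mk.inj h2).2))) κ ψQ
  refine ⟨Equiv.trans ?_ (Equiv.trans e.symm ?_)⟩
  · exact Equiv.subtypeEquivRight fun τ => ⟨fun h => Ideal.Quotient.ringHom_ext (by
      rw [Ideal.Quotient.lift_comp_mk, ← h]; rfl), fun h => by
      exact (congrArg (fun f => f.comp (Ideal.Quotient.mk Q)) h).trans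
        (Ideal.Quotient.lift_comp_mk Q ψ₀ hψQ)⟩
  · exact Equiv.subtypeEquivRight fun τ => ⟨fun h => by
      rw [toNrm, ← RingHom.comp_assoc, h]; exact Ideal.Quotient.lift_comp_mk Q ψ₀ hψQ,
      fun h => Ideal.Quotient.ringHom_ext (by
        rw [RingHom.comp_assoc, Ideal.Quotient.lift_comp_mk]; exact h)⟩

end Groth.Agent.H25.Branch.Sum
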