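import Groth.Agent.H25.Branch.Main
import Groth.Agent.H25.Branch.Congr
import Groth.Agent.Lib.Unram.OneBranch
import Mathlib.RingTheory.Flat.FaithfullyFlat.Algebra

/-! Geometric unibranchness and extensions of the base field. -/

set_option autoImplicit false
set_option linter.style.haveILetI false
universe u

namespace Groth.Agent.H25.Branch.Unibranch

open IsLocalRing Groth.Agent.Lib.Unram
open scoped TensorProduct

theorem finite_of_eq_one (R : Type u) [CommRing R] [IsLocalRing R]
    (h : Brnch.numGeomBranches R = 1) : (minimalPrimes R).Finite := by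
  by_contra hfin
  rw [Brnch.numGeomBranches, if_neg hfin] at h
  exact absurd h (ENat.top_ne_coe 1)

/-- Geometric unibranchness ascends and descends along an extension of the base field. -/
theorem isGeomUnibranch_iff (k A K : Type u) [Field k] [CommRing A] [IsLocalRing A] [Algebra k A]
    [Field K] [Algebra k K] (q : Ideal (A ⊗[k] K)) [q.IsPrime]
    (hq : q.comap (algebraMap A (A ⊗[k] K)) = maximalIdeal A) :
    CAlg2.IsGeomUnibranch A ↔ CAlg2.IsGeomUnibranch (Localization.AtPrime q) := by
  rw [← OneBranch.numGeomBranches_eq_one_iff, ← OneBranch.numGeomBranches_eq_one_iff]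
  let B := Localization.AtPrime q
  haveI : Module.Flat A B := Module.Flat.trans A (A ⊗[k] K) B
  haveI : IsLocalHom (algebraMap A B) := by
    refine ((IsLocalRing.local_hom_TFAE _).out 0 4 rfl rfl).2 ?_
    rw [IsScalarTower.algebraMap_eq A (A ⊗[k] K) B, ← Ideal.comap_comap]
    exact (congrArg _ (IsLocalization.AtPrime.under_maximalIdeal B q)).trans hq
  haveI : Module.FaithfullyFlat A B := .of_flat_of_isLocalHom
  constructor
  · intro h
    rw [Main.numGeomBranches_eq' k K A q hq (finite_of_eq_one A h)
      (Or.inr (h ▸ (ENat.top_ne_coe 1).symm))]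
    exact h
  · intro h
    have hB := finite_of_eq_one B h
    have hA : (minimalPrimes A).Finite := by
      refine (hB.image (Ideal.comap (algebraMap A B))).subset fun p hp => ?_
      haveI := hp.1.1
      obtain ⟨Q, hQ⟩ := PrimeSpectrum.comap_surjective_of_faithfullyFlat (A := A) (B := B) ⟨p, hp.1.1⟩
      obtain ⟨Q', hQ', hle⟩ := Ideal.exists_minimalPrimes_le (I := (⊥ : Ideal B)) (J := Q.asIdeal)
        bot_le
      haveI := hQ'.1.1
      refine ⟨Q', hQ', ?_⟩
      have h1 : Q'.comap (algebraMap A B) ≤ p :=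
        (Ideal.comap_mono hle).trans_eq (congrArg PrimeSpectrum.asIdeal hQ)
      exact le_antisymm h1 (hp.2 ⟨Ideal.IsPrime.comap _, bot_le⟩ h1)
    rw [← Main.numGeomBranches_eq' k K A q hq hA (Or.inl hB)]
    exact h

/-- Geometric unibranchness transfers along isomorphisms. -/
theorem congr {R S : Type u} [CommRing R] [IsLocalRing R] [CommRing S] [IsLocalRing S]
    (e : R ≃+* S) (h : CAlg2.IsGeomUnibranch R) : CAlg2.IsGeomUnibranch S := by
  rwa [← OneBranch.numGeomBranches_eq_one_iff, ← Congr.numGeomBranches_congr e,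
    OneBranch.numGeomBranches_eq_one_iff]

/-- The localisations of `A ⊗ K` are localisations of the `A_p ⊗ K`. -/
theorem exists_localization_equiv (k A K : Type u) [Field k] [CommRing A] [Algebra k A]
    [Field K] [Algebra k K] (q : Ideal (A ⊗[k] K)) [q.IsPrime] (p : Ideal A) [p.IsPrime]
    (hp : q.comap (algebraMap A (A ⊗[k] K)) = p) :
    ∃ (q' : Ideal (Localization.AtPrime p ⊗[k] K)) (_ : q'.IsPrime),
      q'.comap (algebraMap (Localization.AtPrime p) (Localization.AtPrime p ⊗[k] K)) =
        maximalIdeal (Localization.AtPrime p) ∧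
      Nonempty (Localization.AtPrime q' ≃+* Localization.AtPrime q) := by
  let Ap := Localization.AtPrime p
  let L := Localization.AtPrime q
  have hu : ∀ s : p.primeCompl, IsUnit (algebraMap A L s) := fun s => by
    rw [IsScalarTower.algebraMap_apply A (A ⊗[k] K) L]
    exact IsLocalization.map_units L (⟨_, fun h => s.2 (hp.le h)⟩ : q.primeCompl)
  let g : Ap →ₐ[k] L := IsLocalization.liftAlgHom (S := Ap) (f := IsScalarTower.toAlgHom k A L) hu
  let incK : K →ₐ[k] L := (IsScalarTower.toAlgHom k (A ⊗[k] K) L).comp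
    Algebra.TensorProduct.includeRight
  let h : Ap ⊗[k] K →ₐ[k] L := Algebra.TensorProduct.lift g incK fun _ _ => Commute.all _ _
  let t : A ⊗[k] K →ₐ[k] Ap ⊗[k] K :=
    Algebra.TensorProduct.map (IsScalarTower.toAlgHom k A Ap) (AlgHom.id k K)
  have hg : ∀ a, g (algebraMap A Ap a) = algebraMap A L a := fun a => IsLocalization.lift_eq _ a
  have hht : h.comp t = IsScalarTower.toAlgHom k (A ⊗[k] K) L := by
    refine Algebra.TensorProduct.ext (AlgHom.ext fun a => ?_) (AlgHom.ext fun c => ?_)
    · show h (algebraMap A Ap a ⊗ₜ[k] (1 : K)) = algebraMap (A ⊗[k] K) L (algebraMap A (A ⊗[k] K) a)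
      rw [Algebra.TensorProduct.lift_tmul, map_one, mul_one, hg,
        IsScalarTower.algebraMap_apply A (A ⊗[k] K) L]
    · show h (algebraMap A Ap 1 ⊗ₜ[k] c) = algebraMap (A ⊗[k] K) L ((1 : A) ⊗ₜ[k] c)
      rw [Algebra.TensorProduct.lift_tmul, map_one, map_one, one_mul]
      rfl
  have hhtx : ∀ x, h (t x) = algebraMap (A ⊗[k] K) L x := fun x => DFunLike.congr_fun hht x
  refine ⟨(maximalIdeal L).comap h.toRingHom, Ideal.IsPrime.comap _, ?_, ?_⟩
  · rw [Ideal.comap_comap]
    suffices h1 : ((maximalIdeal L).comap (h.toRingHom.comp (algebraMap Ap (Ap ⊗[k] K)))).comap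
        (algebraMap A Ap) = p by
      rw [← IsLocalization.map_under p.primeCompl Ap
        ((maximalIdeal L).comap (h.toRingHom.comp (algebraMap Ap (Ap ⊗[k] K))))]
      exact (congrArg _ h1).trans (IsLocalization.AtPrime.map_eq_maximalIdeal p Ap)
    rw [Ideal.comap_comap]
    conv_rhs => rw [← hp, ← IsLocalization.AtPrime.under_maximalIdeal L q]
    show _ = Ideal.comap _ (Ideal.comap _ _)
    rw [Ideal.comap_comap]
    congr 1
    ext a
    show h (algebraMap A Ap a ⊗ₜ[k] (1 : K)) = algebraMap (A ⊗[k] K) L (algebraMap A (A ⊗[k] K) a)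
    exact hhtx (a ⊗ₜ[k] (1 : K))
  · let q' := (maximalIdeal L).comap h.toRingHom
    haveI : q'.IsPrime := Ideal.IsPrime.comap _
    let R := Localization.AtPrime q'
    let F : R →+* L := IsLocalization.lift (M := q'.primeCompl) (g := h.toRingHom) fun s =>
      not_not.1 fun hn => s.2 ((IsLocalRing.mem_maximalIdeal _).2 hn)
    let G : L →+* R := IsLocalization.lift (M := q.primeCompl)
      (g := (algebraMap (Ap ⊗[k] K) R).comp t.toRingHom) fun s =>
      IsLocalization.map_units R (⟨t s, fun hs => by
        have : h (t s) ∈ maximalIdeal L := hs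
        rw [hhtx] at this
        exact (IsLocalRing.mem_maximalIdeal _).1 this (IsLocalization.map_units L s)⟩ : q'.primeCompl)
    have hFG : F.comp G = RingHom.id L := IsLocalization.ringHom_ext q.primeCompl <| RingHom.ext fun x => by
      show F (G (algebraMap _ L x)) = algebraMap _ L x
      rw [IsLocalization.lift_eq, RingHom.comp_apply, IsLocalization.lift_eq]
      exact hhtx x
    have hGF : G.comp F = RingHom.id R := by
      refine IsLocalization.ringHom_ext q'.primeCompl (Algebra.TensorProduct.ringHom_ext ?_ ?_)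
      · refine IsLocalization.ringHom_ext p.primeCompl (RingHom.ext fun a => ?_)
        show G (F (algebraMap _ R (algebraMap A Ap a ⊗ₜ[k] (1 : K)))) =
          algebraMap _ R (algebraMap A Ap a ⊗ₜ[k] (1 : K))
        rw [IsLocalization.lift_eq]
        show G (h (t (a ⊗ₜ[k] (1 : K)))) = _
        rw [hhtx, IsLocalization.lift_eq]
        rfl
      · refine RingHom.ext fun c => ?_
        show G (F (algebraMap _ R ((1 : Ap) ⊗ₜ[k] c))) = algebraMap _ R ((1 : Ap) ⊗ₜ[k] c)
        rw [IsLocalization.lift_eq, show ((1 : Ap) ⊗ₜ[k] c) = t ((1 : A) ⊗ₜ[k] c) by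
          show _ = algebraMap A Ap 1 ⊗ₜ[k] c
          rw [map_one]]
        show G (h (t _)) = _
        rw [hhtx, IsLocalization.lift_eq]
        rfl
    exact ⟨RingEquiv.ofRingHom F G hFG hGF⟩

end Groth.Agent.H25.Branch.Unibranch
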